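import Cfsg.Agent.KFS.SpX
import Cfsg.Agent.StdX.ONS
import Cfsg.Agent.StdX.DK2

/-!
# The 2-fusion system of the O'Nan group is simple
-/

set_option autoImplicit false
set_option maxRecDepth 100000
set_option Elab.async false

namespace Cfsg.Lib.KFS

open Subgroup Cfsg Cfsg.FusionSystem Cfsg.Lib.Fus Cfsg.Lib.Fus.Grp

namespace SpF

open Cfsg.Lib.Spor Cfsg.Lib.Spor.WM Cfsg.Lib.Known Cfsg.Lib.Known.PC Cfsg.Lib.Gold Cfsg.Lib.StdX
open Cfsg.Lib.StdX.ON
open Cfsg.Lib.Spor.ONP (base)

/-- representatives of the classes of elements of order 16 -/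
def reps : List ℕ := [843, 907, 844, 908]
theorem reps_eq_1' : type_of% @reps.eq_1 := @reps.eq_1
/-- the elements of order 16: image of a point, conjugating element, representative -/
def tab : List (ℕ × ℕ × ℕ) := [(20637,0,843), (100996,11,843), (38506,12,843), (32321,779,843), (122003,716,843), (72353,844,843),
  (5490,45835,843), (30657,54027,843), (76745,49868,843), (34766,53964,843), (46391,49996,843),
  (28809,3191563,843), (97661,3453707,843), (114427,3199755,843), (110900,3457740,843), (96197,3199692,843),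
  (17550,2933580,843), (5220,221295371,843), (16816,204780299,843), (40348,187749131,843),
  (87552,204784332,843), (15470,187749068,843), (68132,204260172,843), (91594,13106197259,843),
  (103841,12015940363,843), (92550,13072651019,843), (121010,12015944396,843), (34074,13072650956,843),
  (43585,769020441355,843), (53400,836649661195,843), (87663,836649665228,843), (52209,53545578574603,843),
  (93085,0,907), (6667,11,907), (43391,12,907), (1699,779,907), (33662,716,907), (78424,844,907),
  (24695,45835,907), (44627,54027,907), (83237,49868,907), (69544,53964,907), (79154,49996,907),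
  (113086,3191563,907), (27895,3453707,907), (70930,3199755,907), (18195,3457740,907), (46413,3199692,907),
  (4543,2933580,907), (71262,221295371,907), (60878,204780299,907), (52462,187749131,907),
  (117548,204784332,907), (78733,187749068,907), (95964,204260172,907), (34874,13106197259,907),
  (22771,12015940363,907), (52489,13072651019,907), (68381,12015944396,907), (102489,13072650956,907),
  (39253,769020441355,907), (38174,836649661195,907), (90198,836649665228,907), (97874,53545578574603,907),
  (7739,0,844), (4790,11,844), (54629,12,844), (16116,779,844), (81436,843,844), (100201,716,844),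
  (48930,45835,844), (60968,54027,844), (55643,45899,844), (76361,49995,844), (68482,49868,844),
  (30006,3191563,844), (108291,3453707,844), (26865,2937611,844), (61197,3199755,844), (69052,3191627,844),
  (100824,3453771,844), (67397,221295371,844), (26517,188003083,844), (44932,204264203,844),
  (65070,221041419,844), (5877,187749131,844), (42445,187741003,844), (57448,12032455435,844),
  (16133,13072904971,844), (62086,14146646795,844), (18225,12015424267,844), (55139,14162907915,844),
  (110785,836666176267,844), (21316,768987149067,844), (98443,906426102539,844), (5837,49215177798411,844),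
  (19309,0,908), (98424,11,908), (38850,12,908), (117346,779,908), (31146,843,908), (31508,716,908),
  (95098,45835,908), (103913,54027,908), (13549,45899,908), (115483,49995,908), (58261,49868,908),
  (47477,3191563,908), (1991,3453707,908), (52347,2937611,908), (38046,3199755,908), (87754,3191627,908),
  (87918,3453771,908), (8938,221295371,908), (81769,188003083,908), (82859,204264203,908),
  (13971,221041419,908), (66308,187749131,908), (84286,187741003,908), (24553,12032455435,908),
  (30692,13072904971,908), (103401,14146646795,908), (49864,12015424267,908), (33112,14162907915,908),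
  (116968,836666176267,908), (64414,768987149067,908), (73499,906426102539,908), (83062,49215177798411,908)]
theorem tab_eq_1' : type_of% @tab.eq_1 := @tab.eq_1

theorem pw : ∀ r ∈ reps, gd.V r ^ 8 = z ∧ gd.V r ∈ T := fun r hr =>
  ⟨(V_pwC gd r 8).symm.trans (gd.eq_of_eqvF (lall_iff.1 (by decide +kernel :
    lall (fun r => eqvF gT 6 63 base (pwC 6 r 8) 10) reps = true) r hr)), V_mem_gn gd (by decide +kernel) r hr⟩

theorem cl : ∀ a ∈ T, a ^ 8 = 1 ∨ ∃ t ∈ T, ∃ r ∈ reps, t * gd.V r = a * t := fun a ha => by
  obtain ⟨c, rfl, k⟩ := conjAll has (fun c hc => ⟨_, tts_mem c hc, rfl⟩) card_T.le (ls := ttl) (cy := 0) (cz := 0)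
    rfl rfl ((V_zero gd).symm ▸ one_mem T) ((V_zero gd).symm ▸ one_mem T)
    (P := fun c => frc (appF gT 6 63 c 0) fun p => bor (lany (fun e => band (Nat.beq p e.1)
      (band (ops.cj e.2.1 e.2.2 c) (band (letB 6 63 [11, 12, 13, 14] [e.2.1]) (lmem e.2.2 reps)))) tab)
      (eqvF gT 6 63 base (pwC 6 c 8) 0)) (by decide +kernel) a ha
    (by change a * gd.V 0 = gd.V 0 * a; rw [V_zero, mul_one, one_mul])
  rcases bor_iff.1 ((frc_eq _ _).symm.trans k) with k | k
  · obtain ⟨e, -, k⟩ := lany_spec k
    simp only [band_iff] at k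
    exact Or.inr ⟨_, V_mem_gn gd k.2.2.1 _ List.mem_cons_self, _, lmem_spec k.2.2.2, has.cj rfl rfl rfl k.2.1⟩
  · exact Or.inl ((V_pwC gd c 8).symm.trans ((gd.eq_of_eqvF k).trans (V_zero gd)))

theorem cj : ∀ r ∈ reps, ∀ d ∈ G0 ⊓ C1 z, d * gd.V r = gd.V 843 * d → d ∈ T := fun r hr d hd e => by
  have x := (pw 843 (by decide)).2
  obtain ⟨c, rfl, k⟩ := conjAll has (K := G0 ⊓ C1 z) (cs := [12, 13, 15, 11, 204796748, 2937546, 975179658060, 1043898364811, 836666962894, 10, 978367337164])
    (fun c hc => ⟨_, c0_eq.ge (V_mem_gn gd (by decide +kernel) c hc), rfl⟩) card_c0.le rfl rfl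
    (T_le_c0 (pw r hr).2) (T_le_c0 x) (lall_iff.1 (by decide +kernel : lall (fun r => conjAllB ops
      [12, 13, 15, 11, 204796748, 2937546, 975179658060, 1043898364811, 836666962894, 10, 978367337164] 161280
      [⟨219406,0,0,10,[0,1,2]⟩, ⟨23883,0,0,4,[3,1,4]⟩, ⟨87881,23884,0,2,[5,6,7]⟩,
      ⟨21002,87882,0,2,[8,9,10,6]⟩, ⟨50933,21003,0,0,[]⟩, ⟨8099,50934,0,0,[]⟩, ⟨60973,8100,0,0,[]⟩,
      ⟨69680,60974,0,0,[]⟩, ⟨111473,69681,0,0,[]⟩, ⟨10,0,0,1,[9]⟩] r 843
      fun c => bor (bnot (eqvF gT 6 63 base (mulF 6 c r) (mulF 6 843 c)))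
        (nany (fun k => eqvF gT 6 63 base c (pwC 6 843 k)) 16)) reps = true) r hr) d hd e
  rcases bor_iff.1 k with k | k
  · exact absurd (by rw [V_mulF, V_mulF]; exact e) (ne_of_eqvF gd hb k)
  · obtain ⟨i, -, k⟩ := nany_spec k
    exact ((gd.eq_of_eqvF k).trans (V_pwC gd _ i)).symm ▸ pow_mem x i

theorem nrm (z1 : z ≠ 1) : ∀ g ∈ G0, (∀ t ∈ T, g * t * g⁻¹ ∈ T) → g ∈ T := fun g hg h => by
  obtain ⟨x8, x⟩ := pw 843 (by decide)
  rcases cl _ (h _ x) with e | ⟨t, ht, r, hr, e⟩
  · rw [conj_pow, x8] at e
    exact absurd (by simpa using e) z1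
  · have e1 : g⁻¹ * t * gd.V r = gd.V 843 * (g⁻¹ * t) := by rw [mul_assoc, e]; group
    have e2 := (show SemiconjBy (g⁻¹ * t) (gd.V r) (gd.V 843) from e1).pow_right 8
    rw [x8, (pw r hr).1] at e2
    have := cj r hr _ ⟨G0.mul_mem (G0.inv_mem hg) (T_le_c0 ht).1, mem_centralizer_singleton_iff.2 e2⟩ e1
    simpa using T.mul_mem ht (T.inv_mem this)

theorem kf : KFact G0 :=
  let ⟨_, h⟩ := ON.bas
  Or.inr (sim_of (noSC_of_bas h) (autB_of_self (T_le_c0.trans inf_le_left) card_T h.syl (nrm h.z1))
    (by rw [card_G0]; decide))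

end SpF

variable {G : Type*} [Group G] [Finite G]

theorem kfact_ON (h : Spor.IsoON G) : KFact G :=
  let ⟨e⟩ := h
  SpF.kf.of_equiv (e.trans StdX.ON.eqv).symm

end Cfsg.Lib.KFS
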