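import Cfsg.Agent.KFS.SpX
import Cfsg.Agent.StdX.SuzS
import Cfsg.Agent.StdX.VGen

/-!
# The 2-fusion system of the Suzuki group is simple
-/

set_option autoImplicit false
set_option maxRecDepth 100000
set_option Elab.async false

namespace Cfsg.Lib.KFS

open Subgroup Cfsg Cfsg.FusionSystem Cfsg.Lib.Fus Cfsg.Lib.Fus.Grp

namespace SpG

open Cfsg.Lib.Spor Cfsg.Lib.Spor.WM Cfsg.Lib.Known Cfsg.Lib.Known.PC Cfsg.Lib.Gold Cfsg.Lib.StdX
open Cfsg.Lib.StdX.Suz Cfsg.Lib.StdX.SuzS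
open Cfsg.Lib.Spor.SuzP (base)
open Cfsg.Lib.Spor.Fm (pcT pcT_mem)

theorem bas0 : Bas ⊤ G0 (pcT g 14 2) z y 13 :=
  SG.bas (SG.eW_iff gd hb ws) (SG.iW_iff gd V_mem ws) index rfl (by decide) (by decide) hG simple aut
    (by decide) c0 hS c1 c2 c3 c4 c5 c6 c7 hA hR hy hW

theorem letT : gn gd.V [11, 12, 13, 14, 15, 16] ≤ pcT g 14 2 :=
  gn_le fun c hc => (gn_le (K := pcT g 14 2) (by
    simp only [List.forall_mem_cons]
    exact ⟨pcT_mem (l := 2) (by decide) (by decide), pcT_mem (l := 3) (by decide) (by decide),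
      pcT_mem (l := 4) (by decide) (by decide), pcT_mem (l := 5) (by decide) (by decide),
      pcT_mem (l := 6) (by decide) (by decide), pcT_mem (l := 7) (by decide) (by decide),
      fun _ h => nomatch h⟩))
    (of_memB gd hι (xs := [15, 14, 1039, 11, 12, 54027]) (L := [(11, [6]), (12, [8]), (13, [10, 7, 9]),
      (14, [2]), (15, [0]), (16, [4, 1])]) (by decide +kernel) c hc)

/-- generators of the largest normal 2-subgroup of the centraliser -/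
def qc : List ℕ := [254850061, 54027, 49995, 3990478, 271905547, 271627213]
theorem qc_eq_1' : type_of% @qc.eq_1 := @qc.eq_1
/-- involutions generating the centraliser -/
def iv : List ℕ := [11, 12, 13, 14, 15, 16, 23, 24, 25]
theorem iv_eq_1' : type_of% @iv.eq_1 := @iv.eq_1
/-- conjugates of the generators -/
def nw : List (List (List ℕ)) := [[[0, 6, 2], [4], [2], [2, 6, 4], [2, 6, 8], [6, 4, 10]], [[6, 4, 10], [4], [2],
  [6], [0, 4, 6, 10, 8], [0, 6, 2]], [[10], [2], [4], [2, 4, 6], [0, 10, 8], [0]], [[4, 8], [0, 2, 4, 8], [0, 8],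
  [6], [8], [6, 10]], [[0, 8, 10], [2, 8, 10], [4, 10, 8], [6], [0, 6, 0, 8], [6, 10]], [[0, 2, 4, 6], [2, 10, 8],
  [4, 10, 8], [6], [10], [8]], [[4, 0, 4], [6, 0, 10], [0, 2, 4, 6, 10], [2, 8, 10], [2, 8, 2], [0, 8, 10]], [[0],
  [2, 4, 6], [0, 8, 10], [0, 4, 6, 8, 10], [6, 0, 10], [6, 4, 10]], [[2], [0], [0, 2, 4, 6], [6], [6, 8], [6, 10]]]
theorem nw_eq_1' : type_of% @nw.eq_1 := @nw.eq_1

theorem qT : ∀ c ∈ qc, gd.V c ∈ pcT g 14 2 := fun c hc =>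
  letT (V_mem_gn gd (by decide +kernel) c hc)

theorem c_eq : G0 ⊓ C1 z = gn gd.V iv :=
  (sub_eq gd hι (K := G0 ⊓ C1 z) (fun l hl => c0z_eq.ge (mem_gn gd.V ((by decide : ∀ l ∈ iv, l ∈ c0zI) l hl)))
    card_c0z.le (cs := [24, 13, 15, 1594912764815, 241267407, 14230586063, 12217804300, 4293328, 238355159,
      4248525, 1112802375184, 13124027406, 25960691211])
    (ls := [⟨3025, 0, 0, 8, [0,1,2]⟩, ⟨1344, 0, 0, 5, [3,4]⟩, ⟨2448, 0, 0, 5, [5,6]⟩, ⟨2501, 0, 0, 3, [7,8]⟩,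
      ⟨630, 0, 0, 3, [9,10]⟩, ⟨423, 0, 0, 1, [11]⟩, ⟨2770, 0, 0, 1, [12]⟩]) (by decide +kernel)).2

theorem nrm : G0 ⊓ C1 z ≤ Ns (gn gd.V qc) := c_eq.le.trans (gn_le fun c hc => by
  obtain ⟨i, hi, rfl⟩ := exists_nth hc
  exact of_nrmB gd hι (nall_iff.1 (by decide +kernel :
    nall (fun i => nrmB gT 6 63 base ι (nth 0 iv i) qc (nth [] nw i)) (llen iv) = true) i hi))

theorem cen : pcT g 14 2 ⊓ Cs (gn gd.V qc) ≤ gn gd.V qc := fun d hd => by
  have k : ∀ u ∈ qc, Commute d (gd.V u) := fun u hu => (mem_centralizer_iff.1 hd.2 _ (mem_gn _ hu)).symm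
  have q0 := qT 254850061 (by decide)
  obtain ⟨c, a1, a2⟩ := conjAll (gd.hasF hι) (K := pcT g 14 2) (cs := [14, 4240395, 3457867, 3212108, 3453964,
      3474187, 188539915, 204272462, 3982284, 272434128, 3720207, 3457872, 1036, 17417962254, 188531659,
      15304033164, 204796623, 2945871, 17434739660, 188273422, 15253426894, 3453771])
    (fun c hc => ⟨_, letT (V_mem_gn gd (by decide +kernel) c hc), rfl⟩) (N := 8192) bas0.cardT.le
    (ls := [⟨3358, 0, 0, 1, [0]⟩, ⟨2722, 3359, 0, 0, []⟩, ⟨2352, 0, 0, 1, [1,2,3,4,5]⟩, ⟨2412, 2353, 0, 0, []⟩,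
      ⟨3555, 0, 0, 2, [6,7,8,9,10,11,12]⟩, ⟨3236, 3556, 0, 0, []⟩, ⟨1742, 0, 0, 1, [13,14,15,16]⟩,
      ⟨873, 1743, 0, 0, []⟩, ⟨2897, 0, 0, 1, [17,18,19]⟩, ⟨2549, 2898, 0, 0, []⟩, ⟨321, 0, 0, 1, [20]⟩,
      ⟨295, 322, 0, 1, [21]⟩]) (cy := 254850061) (cz := 254850061) rfl rfl q0 q0
    (P := stdP O qc [0, 9] base) (by decide +kernel) d hd.1 (k _ (by decide))
  obtain ⟨l, a3, a4⟩ := of_stdP (gd.hasF hι) (gd.fm_in qc) (gd.fm_in [0, 9]) a1 a2 fun u hu g e =>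
    (show gd.V u = g from e) ▸ k u hu
  exact (show gd.V l = d from a4) ▸
    of_memB gd hι (xs := qc) (L := [(0, []), (9, [0, 4, 0, 4])]) (by decide +kernel) l a3

theorem inv : ∀ a ∈ {x | ∃ c ∈ iv, gd.V c = x}, a * a = 1 := by
  rintro _ ⟨c, hc, rfl⟩
  have := gd.eq_of_eqvF (lall_iff.1 (by decide +kernel :
    lall (fun c => eqvF gT 6 63 base (mulF 6 c c) 0) iv = true) c hc)
  rwa [V_mulF, V_zero] at this

theorem kf : KFact G0 := Or.inr (sim_of (noSC_of_bas bas0)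
  (autB_of_bas bas0 (gn_le qT) nrm cen c_eq inv) (by rw [card_G0]; decide))

end SpG

variable {G : Type*} [Group G] [Finite G]

theorem kfact_Suz (h : Spor.IsoSuz G) : KFact G :=
  let ⟨e⟩ := h
  SpG.kf.of_equiv (e.trans StdX.Suz.eqv).symm

end Cfsg.Lib.KFS
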