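import Cfsg.Agent.KFS.C2a
import Cfsg.Agent.Chev.OverU
import Cfsg.Agent.Chev.OverMin
import Cfsg.Agent.Chev.AutBN
import Cfsg.Agent.Chev.LieModel
import Cfsg.Agent.Gold.Cm

/-!
# Strongly closed subgroups cover the minimal parabolic subgroups
-/

set_option autoImplicit false
set_option linter.unusedVariables false

namespace Cfsg.Lib.KFS

open Subgroup Cfsg Cfsg.Lib.Chev Cfsg.Lib.Chev.RGD

variable {ι A : Type} [Fintype ι] [DecidableEq ι] [DecidableEq A] {Γ : Type*} [Group Γ]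
  {R : WeylData ι A} {Y : RGD R Γ} {S : R.Sym} (T : Y.Twist S)

namespace C2b

theorem exists_cc {P Q N : Subgroup Γ} (hQ : P ≤ normalizer (Q : Set Γ))
    (hN : P ≤ normalizer (N : Set Γ)) : ∃ C : Subgroup Γ,
      (∀ g, g ∈ C ↔ g ∈ P ∧ ∀ y ∈ Q, g * y * g⁻¹ * y⁻¹ ∈ N) ∧ P ≤ normalizer (C : Set Γ) := by
  have q : ∀ p ∈ P, ∀ y ∈ Q, p⁻¹ * y * p ∈ Q := fun p hp y hy => by
    simpa using conj_mem_of_mem_normalizer (hQ (inv_mem hp)) hy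
  have k : ∀ p ∈ P, ∀ g, (g ∈ P ∧ ∀ y ∈ Q, g * y * g⁻¹ * y⁻¹ ∈ N) →
      p * g * p⁻¹ ∈ P ∧ ∀ y ∈ Q, p * g * p⁻¹ * y * (p * g * p⁻¹)⁻¹ * y⁻¹ ∈ N := fun p hp g hg =>
    ⟨C2a.cF hp hg.1, fun y hy => by
      simpa [mul_assoc] using conj_mem_of_mem_normalizer (hN hp) (hg.2 _ (q p hp y hy))⟩
  refine ⟨{ carrier := {g | g ∈ P ∧ ∀ y ∈ Q, g * y * g⁻¹ * y⁻¹ ∈ N}
            one_mem' := ⟨one_mem _, fun y _ => by simp⟩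
            mul_mem' := fun {a b} ha hb => ⟨mul_mem ha.1 hb.1, fun y hy => by
              simpa [mul_assoc] using
                mul_mem (conj_mem_of_mem_normalizer (hN ha.1) (hb.2 y hy)) (ha.2 y hy)⟩
            inv_mem' := fun {a} ha => ⟨inv_mem ha.1, fun y hy => by
              simpa [mul_assoc] using inv_mem (ha.2 _ (q a ha.1 y hy))⟩ },
    fun _ => Iff.rfl, fun p hp => mem_normalizer_iff.2 fun g => ⟨k p hp g, fun h => ?_⟩⟩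
  simpa [mul_assoc] using k _ (inv_mem hp) _ h

theorem P_le_N (J : Set ι) : Y.P J ⊓ T.G1 ≤ normalizer ((Y.UJ J ⊓ T.F : Subgroup Γ) : Set Γ) :=
  fun _ hg => Gold.mem_Ns_inf (Y.P_le_normalizer_UJ J hg.1) (le_normalizer (T.G1_le_F hg.2))

theorem UL_le {i j : ι} (hij : i ∉ S.orb j) : Y.UL (S.orb i) ⊓ T.F ≤ Y.UJ (S.orb j) ⊓ T.F :=
  inf_le_inf_right _ (UL_le_UJ fun k hk hk' => hij (by
    rw [← S.orb_eq_of_mem hk', S.orb_eq_of_mem hk]; exact S.self_mem_orb i))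

theorem L1_le (j : ι) : T.L1 j ≤ Y.P (S.orb j) ⊓ T.G1 := le_inf (C2a.L1_le_P T j) (T.L1_le_G1 j)

variable (hY : Y.Faithful)
include hY

theorem U_le (J : Set ι) : Y.U ⊓ T.F ≤ Y.P J ⊓ T.G1 :=
  le_inf (inf_le_left.trans (Y.U_le_B.trans (Y.B_le_P J))) (T.U_inf_le_G1 hY)

theorem not_le (i : ι) : ¬ Y.UL (S.orb i) ⊓ T.F ≤ Y.UJ (S.orb i) := fun h => by
  obtain ⟨x, hx, x1⟩ := T.exists_UL_ne_one hY i
  exact x1 (mem_bot.1 (hY.UJ_inf_LJ (S.orb i) ▸ mem_inf.2 ⟨h hx, Y.UL_le_LJ _ hx.1⟩))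

end C2b

variable (hY : Y.Faithful)
include hY

omit hY T in
theorem rk_cases (hc : R.Conn) : (∀ i j, j ∈ S.orb i) ∨ ∀ i, ∃ j, i ∉ S.orb j ∧ R.C j i ≠ 0 := by
  refine or_iff_not_imp_left.2 fun h i => ?_
  have st : S.Stable {i | ∃ j, j ∉ S.orb i ∧ R.C i j ≠ 0} := fun i =>
    ⟨fun ⟨j, h1, h2⟩ => by
      obtain ⟨j, rfl⟩ := S.π.surjective j
      rw [S.orb_π, S.stable_orb] at h1
      exact ⟨j, h1, fun e => h2 ((S.C_π_eq_zero _ _).2 e)⟩,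
    fun ⟨j, h1, h2⟩ => ⟨S.π j, by rwa [S.orb_π, S.stable_orb],
      fun e => h2 ((S.C_π_eq_zero _ _).1 e)⟩⟩
  obtain ⟨i', h1, j', h2, h3⟩ := hc.2 (S.orb i) ⟨i, S.self_mem_orb i⟩ (by
    by_contra e
    have k : ∀ a, a ∈ S.orb i := fun a => not_not.1 fun x => e ⟨a, x⟩
    exact h fun a b => S.orb_eq_of_mem (k a) ▸ k b)
  obtain ⟨j, k1, k2⟩ := st.orb_subset (i := i') ⟨j', S.orb_eq_of_mem h1 ▸ h2, h3⟩
    (S.mem_orb_comm.1 h1)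
  exact ⟨j, fun e => k1 (S.mem_orb_comm.1 e), fun e => k2 (R.C_eq_zero_comm e)⟩

theorem adj_of_normal (hU : IsPGroup 2 Y.U) [Finite Γ] {i j : ι} (hij : i ∉ S.orb j) (hc : R.C j i ≠ 0)
    {M : Subgroup Γ} (h1 : M ≤ Y.P (S.orb j) ⊓ T.G1)
    (h2 : Y.P (S.orb j) ⊓ T.G1 ≤ normalizer (M : Set Γ)) (h3 : ¬ M ⊓ Y.U ≤ Y.UJ (S.orb j)) :
    ∃ m ∈ M, ∀ x ∈ Y.UL (S.orb i) ⊓ T.F, m * x * m⁻¹ ∈ Y.UJ (S.orb i) ⊓ T.F := by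
  obtain ⟨x, hx, hx'⟩ := SetLike.not_le_iff_exists.1 h3
  obtain ⟨a, ha, b, hb, rfl⟩ := T.exists_UJ_mul_UL hY (S.stable_orb j)
    (mem_inf.2 ⟨hx.2, T.G1_le_F (h1 hx.1).2⟩)
  obtain ⟨n, hn, hl⟩ := T.exists_lifts_L1 hY j
  have nP := C2b.L1_le T j hn
  have m0 := conj_mem_of_mem_normalizer (h2 nP) hx.1
  rcases (T.mem_P_orb_iff hY (T.G1_le_F (h1 m0).2)).1 (h1 m0).1 with e | e
  · have k := hY.eq_one_of_mem_V_of_mem_B (Y.VL_le_V _ (Lifts.conj_UL hl hb.1))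
      ((mul_mem_cancel_left (Y.U_le_B (Y.UJ_le_U _ (conj_mem_of_mem_normalizer
        (Y.P_le_normalizer_UJ _ nP.1) ha.1)))).1 (by simpa [mul_assoc] using e))
    rw [show b = 1 by simpa using k, mul_one] at hx'
    exact absurd ha.1 hx'
  obtain ⟨c, hc', u, hu, e⟩ := T.exists_of_mem_cell hY (h1 m0).2 e nP.2 hl
  have uU : u ∈ Y.U ⊓ T.F := ⟨Y.Uneg_le_U _ hu.1, hu.2⟩
  have m1 := conj_mem_of_mem_normalizer (h2 (C2b.U_le T hY _ uU)) m0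
  refine ⟨_, m1, fun y hy => ⟨?_, C2a.cF (T.G1_le_F (h1 m1).2) hy.2⟩⟩
  have k := conj_mem_of_mem_normalizer (Y.P_le_normalizer_UJ (S.orb i) (Y.B_le_P _
    (mul_mem (Y.U_le_B uU.1) hc'.1))) (Twist.conj_mem_UJ_of_adj hij hc (S.t_inv j ▸ hl.inv) hy.1)
  rw [e]
  simpa [mul_assoc] using k

theorem cent_UJ (hU : IsPGroup 2 Y.U) [Finite Γ] {j : ι} (h : ∃ i, i ∉ S.orb j ∧ R.C j i ≠ 0) :
    (Y.U ⊓ T.F) ⊓ centralizer ((Y.UJ (S.orb j) ⊓ T.F : Subgroup Γ) : Set Γ) ≤ Y.UJ (S.orb j) ⊓ T.F := by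
  obtain ⟨i, hij, hc⟩ := h
  refine fun c hc' => ⟨?_, hc'.1.2⟩
  by_contra e
  obtain ⟨m, hm, k⟩ := adj_of_normal T hY hU hij hc
    (M := centralizer ((Y.UJ (S.orb j) ⊓ T.F : Subgroup Γ) : Set Γ) ⊓ (Y.P (S.orb j) ⊓ T.G1))
    inf_le_right (fun g hg => Gold.mem_Ns_inf (Gold.mem_Ns_Cs (C2b.P_le_N T _ hg)) (le_normalizer hg))
    fun x => e (x ⟨⟨hc'.2, C2b.U_le T hY _ hc'.1⟩, hc'.1.1⟩)
  refine C2b.not_le T hY i fun x hx => ?_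
  have := (k x hx).1
  rwa [← mem_centralizer_iff.1 hm.1 x (C2b.UL_le T hij hx), mul_inv_cancel_right] at this

theorem cover_sc (hU : IsPGroup 2 Y.U) (hH : ∀ h ∈ Y.H, (∃ k, orderOf h = 2 ^ k) → h = 1) [Finite Γ]
    (hc : R.Conn) (h2 : ∀ i, ∃ j, i ∉ S.orb j ∧ R.C j i ≠ 0) {T₀ : Subgroup Γ} (h0 : T₀ ≠ ⊥)
    (hle : T₀ ≤ Y.U ⊓ T.F) (hsc : ∀ x ∈ T₀, ∀ g ∈ T.G1, g * x * g⁻¹ ∈ Y.U → g * x * g⁻¹ ∈ T₀) (j : ι) :
    Y.U ⊓ T.F ≤ T₀ ⊔ Y.UJ (S.orb j) ⊓ T.F ∧ ∀ g ∈ T.L1 j, ∀ y ∈ Y.UJ (S.orb j) ⊓ T.F,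
      g * y * g⁻¹ * y⁻¹ ∈ T₀ ⊔ ⁅Y.U ⊓ T.F, Y.U ⊓ T.F⁆ := by
  have uj : ∀ j, Y.UJ (S.orb j) ⊓ T.F ≤ Y.U ⊓ T.F := fun j => inf_le_inf_right _ (Y.UJ_le_U _)
  have hN : ∀ j, Y.P (S.orb j) ⊓ T.G1 ≤
      normalizer ((T₀ ⊓ (Y.UJ (S.orb j) ⊓ T.F) : Subgroup Γ) : Set Γ) := fun j g hg =>
    mem_normalizer_fintype fun x hx => by
      have := conj_mem_of_mem_normalizer (C2b.P_le_N T _ hg) hx.2
      exact ⟨hsc x hx.1 g hg.2 (uj j this).1, this⟩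
  have hT : ∀ j, ∀ t ∈ T₀, ∀ y ∈ Y.UJ (S.orb j) ⊓ T.F,
      t * y * t⁻¹ * y⁻¹ ∈ T₀ ⊓ (Y.UJ (S.orb j) ⊓ T.F) := fun j t ht y hy =>
    mem_inf.2 ⟨by
      simpa [mul_assoc] using mul_mem ht (hsc _ (inv_mem ht) y (T.U_inf_le_G1 hY (uj j hy))
        (C2a.cF (uj j hy) (hle (inv_mem ht))).1),
      mul_mem (conj_mem_of_mem_normalizer (C2b.P_le_N T _ (C2b.U_le T hY _ (hle ht))) hy)
        (inv_mem hy)⟩
  have adj : ∀ i j, i ∉ S.orb j → R.C j i ≠ 0 → ¬ T₀ ≤ Y.UJ (S.orb j) →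
      Y.U ⊓ T.F ≤ T₀ ⊔ Y.UJ (S.orb i) ⊓ T.F := fun i j hij hc h u hu => by
    obtain ⟨C, c1, c2⟩ := C2b.exists_cc (C2b.P_le_N T (S.orb j)) (hN j)
    obtain ⟨m, hm, k⟩ := adj_of_normal T hY hU hij hc (fun g hg => ((c1 g).1 hg).1) c2 fun e =>
      h fun t ht => e ⟨(c1 t).2 ⟨C2b.U_le T hY _ (hle ht), hT j t ht⟩, (hle ht).1⟩
    obtain ⟨a, ha, b, hb, rfl⟩ := T.exists_UJ_mul_UL hY (S.stable_orb i) hu
    refine mul_mem (mem_sup_right ha) ?_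
    simpa [mul_assoc] using mul_mem (mem_sup_left (inv_mem
      (((c1 m).1 hm).2 b (C2b.UL_le T hij hb)).1)) (mem_sup_right (k b hb))
  have all : ∀ j, ¬ T₀ ≤ Y.UJ (S.orb j) := by
    by_contra! e
    obtain ⟨j, i, k1, k2, k3⟩ : ∃ j i, ¬ T₀ ≤ Y.UJ (S.orb j) ∧ T₀ ≤ Y.UJ (S.orb i) ∧
        R.C j i ≠ 0 := by
      obtain ⟨j, k1, i, k2, k3⟩ := hc.2 {j | ¬ T₀ ≤ Y.UJ (S.orb j)} (by
        by_contra e'
        have k : ∀ j, T₀ ≤ Y.UJ (S.orb j) := fun j => not_not.1 fun x => e' ⟨j, x⟩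
        refine h0 (eq_bot_iff.2 fun t ht => hY.eq_one_of_mem_U_of_mem_H (hle ht).1
          (T.of_normal_le_B hY (iSup_le fun j => (C2b.L1_le T j).trans ?_)
            (hle.trans (inf_le_left.trans Y.U_le_B)) ht).1)
        have := hN j
        rwa [inf_eq_left.2 (le_inf (k j) (hle.trans inf_le_right))] at this)
        (e.imp fun _ h => not_not.2 h)
      exact ⟨j, i, k1, not_not.1 k2, k3⟩
    exact C2b.not_le T hY i (((inf_le_inf_right _ (Y.UL_le_U _)).trans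
      (adj i j (fun x => k1 (S.orb_eq_of_mem x ▸ k2)) k3 k1)).trans (sup_le k2 inf_le_left))
  obtain ⟨i, k1, k2⟩ := h2 j
  have first := adj j i k1 k2 (all i)
  refine ⟨first, fun g hg y hy => ?_⟩
  obtain ⟨C, c1, c2⟩ := C2b.exists_cc (C2b.P_le_N T (S.orb j))
    (N := T₀ ⊓ (Y.UJ (S.orb j) ⊓ T.F) ⊔ ⁅Y.UJ (S.orb j) ⊓ T.F, Y.UJ (S.orb j) ⊓ T.F⁆) fun g hg =>
      Gold.mem_Ns_sup (hN j hg) (Gold.mem_Ns_commutator (C2b.P_le_N T _ hg) (C2b.P_le_N T _ hg))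
  obtain ⟨n, hn, hl⟩ := T.exists_lifts_L1 hY j
  refine sup_le_sup inf_le_left (commutator_mono (uj j) (uj j)) (((c1 g).1
    (T.L1_le_of_lifts (T.G1_le_F (T.L1_le_G1 j hn)) hl (c2 (C2b.L1_le T j hn))
      ((inf_le_inf_right _ (Y.UL_le_U _)).trans (first.trans (sup_le (fun t ht => (c1 t).2
        ⟨C2b.U_le T hY _ (hle ht), fun y hy => mem_sup_left (hT j t ht y hy)⟩) fun u hu => (c1 u).2
        ⟨C2b.U_le T hY _ (uj j hu), fun y hy =>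
          mem_sup_right (commutator_mem_commutator hu hy)⟩))) hg)).2 y hy)

end Cfsg.Lib.KFS
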