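import Cfsg.Agent.KInv.TwA
import Cfsg.Agent.Chev.OverU
import Cfsg.Agent.Gold.KLiftBase

/-!
# Groups of Lie type in characteristic two: the focal subgroup modulo a strongly closed subgroup
-/

set_option autoImplicit false

namespace Cfsg.Lib.KFS.C2c

open Subgroup Cfsg Cfsg.Lib.Chev Cfsg.Lib.Chev.RGD

/-- The elements normalising `U` and centralising it modulo `M`. -/
def good {Γ : Type*} [Group Γ] (U M : Subgroup Γ) : Subgroup Γ where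
  carrier := {b | b ∈ normalizer (U : Set Γ) ∧ ∀ y ∈ U, b * y * b⁻¹ * y⁻¹ ∈ M}
  one_mem' := ⟨one_mem _, fun y _ => by simp⟩
  mul_mem' := by
    rintro a b ⟨ha, ha'⟩ ⟨hb, hb'⟩
    refine ⟨mul_mem ha hb, fun y hy => ?_⟩
    have := mul_mem (ha' _ ((mem_normalizer_iff.1 hb y).1 hy)) (hb' y hy)
    rwa [show a * (b * y * b⁻¹) * a⁻¹ * (b * y * b⁻¹)⁻¹ * (b * y * b⁻¹ * y⁻¹) =
      a * b * y * (a * b)⁻¹ * y⁻¹ by group] at this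
  inv_mem' := by
    rintro b ⟨hb, hb'⟩
    refine ⟨inv_mem hb, fun y hy => ?_⟩
    have := inv_mem (hb' _ ((mem_normalizer_iff.1 (inv_mem hb) y).1 hy))
    rwa [show (b * (b⁻¹ * y * b⁻¹⁻¹) * b⁻¹ * (b⁻¹ * y * b⁻¹⁻¹)⁻¹)⁻¹ = b⁻¹ * y * b⁻¹⁻¹ * y⁻¹ by
      group] at this

theorem good_eq_1' : type_of% @good.eq_1 := @good.eq_1

variable {ι A : Type} [Fintype ι] [DecidableEq ι] [DecidableEq A] {Γ : Type*} [Group Γ]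
  {R : WeylData ι A} {Y : RGD R Γ} {S : R.Sym} (T : Y.Twist S) (hY : Y.Faithful)

theorem conj_F {g y : Γ} (hg : g ∈ T.G1) (hy : y ∈ T.F) : g * y * g⁻¹ ∈ T.F :=
  mul_mem (mul_mem (T.G1_le_F hg) hy) (inv_mem (T.G1_le_F hg))

theorem H_le_normalizer : Y.H ⊓ T.G1 ≤ normalizer ((Y.U ⊓ T.F : Subgroup Γ) : Set Γ) :=
  le_normalizer_of_conj_mem fun _ hh u hu =>
    ⟨(mem_normalizer_iff.1 (Y.H_le_normalizer_U hh.1) u).1 hu.1, conj_F T hh.2 hu.2⟩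

include hY

theorem H_good {T₀ M : Subgroup Γ} (hM : T₀ ≤ M) (hle : T₀ ≤ Y.U ⊓ T.F)
    (hsc : ∀ x ∈ T₀, ∀ g ∈ T.G1, g * x * g⁻¹ ∈ Y.U → g * x * g⁻¹ ∈ T₀)
    (ha : Y.H ⊓ T.G1 ≤ ⨆ j, Y.H ⊓ T.L1 j)
    (hb : ∀ j, Y.U ⊓ T.F ≤ T₀ ⊔ Y.UJ (S.orb j) ⊓ T.F ∧ ∀ g ∈ T.L1 j, ∀ y ∈ Y.UJ (S.orb j) ⊓ T.F,
      g * y * g⁻¹ * y⁻¹ ∈ M) : Y.H ⊓ T.G1 ≤ good (Y.U ⊓ T.F) M := by
  refine ha.trans (iSup_le fun j h hh => ?_)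
  have hG : h ∈ T.G1 := T.L1_le_G1 j hh.2
  refine ⟨H_le_normalizer T ⟨hh.1, hG⟩, fun y hy => ?_⟩
  have hn : Y.UJ (S.orb j) ⊓ T.F ≤ normalizer (T₀ : Set Γ) :=
    le_normalizer_of_conj_mem fun a ha x hx => hsc x hx a
      (T.U_inf_le_G1 hY ⟨Y.UJ_le_U _ ha.1, ha.2⟩)
      (mul_mem (mul_mem (Y.UJ_le_U _ ha.1) (hle hx).1) (inv_mem (Y.UJ_le_U _ ha.1)))
  obtain ⟨t, ht, u, hu, rfl⟩ := exists_mul_of_mem_sup_of_le_normalizer' hn ((hb j).1 hy)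
  have h1 := hsc t ht h hG ((mem_normalizer_iff.1 (Y.H_le_normalizer_U hh.1) t).1 (hle ht).1)
  have := mul_mem (mul_mem (hM h1) ((hb j).2 h hh.2 u hu)) (inv_mem (hM ht))
  rwa [show h * t * h⁻¹ * (h * u * h⁻¹ * u⁻¹) * t⁻¹ = h * (t * u) * h⁻¹ * (t * u)⁻¹ by group] at this

theorem N_good {M : Subgroup Γ} (hH : Y.H ⊓ T.G1 ≤ good (Y.U ⊓ T.F) M)
    (hb : ∀ j, ∀ g ∈ T.L1 j, ∀ y ∈ Y.UJ (S.orb j) ⊓ T.F, g * y * g⁻¹ * y⁻¹ ∈ M)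
    {w : R.W} (hw : w ∈ S.fix) : ∀ m ∈ T.G1, Y.Lifts m w → ∀ y ∈ Y.Upos w ⊓ T.F,
      m * y * m⁻¹ * y⁻¹ ∈ M := by
  refine WeylData.Sym.fix_induction_right (p := fun w => ∀ m ∈ T.G1, Y.Lifts m w →
    ∀ y ∈ Y.Upos w ⊓ T.F, m * y * m⁻¹ * y⁻¹ ∈ M) hw ?_ ?_
  · intro m hm hl y hy
    exact (hH ⟨lifts_one_iff.1 hl, hm⟩).2 y ⟨Y.Upos_le_U _ hy.1, hy.2⟩
  · intro i w hw hp ih m hm hl y hy
    obtain ⟨n, hn, hnl⟩ := T.exists_lifts_L1 hY i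
    have hnG := T.L1_le_G1 i hn
    have hJ : ∀ r, R.Pos r → R.Pos ((w * S.t i) • r) → ¬ R.InJ (S.orb i) r := fun r h1 h2 h3 =>
      (WeylData.Sym.not_pos_mul_t_iff hw hp h1).2 (Or.inl h3) h2
    have h1 : y ∈ Y.UJ (S.orb i) := spanX_mono _ (fun r hr => And.intro hr.1 (hJ r hr.1 hr.2)) hy.1
    have h2 : n * y * n⁻¹ ∈ Y.Upos w := hnl.conj_spanX (fun r hr => hr.1.1) (fun r hr =>
      And.intro (R.pos_smul_of_not_inJ (S.t_mem_WJ i) hr.1 (hJ r hr.1 hr.2))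
        (by rw [← mul_smul]; exact hr.2)) hy.1
    have h3 : Y.Lifts (m * n⁻¹) w := by
      have := hl.mul hnl.inv
      rwa [mul_inv_cancel_right] at this
    have := mul_mem (ih _ (mul_mem hm (inv_mem hnG)) h3 _ ⟨h2, conj_F T hnG hy.2⟩)
      (hb i n hn y ⟨h1, hy.2⟩)
    rwa [show m * n⁻¹ * (n * y * n⁻¹) * (m * n⁻¹)⁻¹ * (n * y * n⁻¹)⁻¹ * (n * y * n⁻¹ * y⁻¹) =
      m * y * m⁻¹ * y⁻¹ by group] at this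

theorem mem_Upos {w : R.W} {m y : Γ} (hl : Y.Lifts m w) (hy : y ∈ Y.U) (h : m * y * m⁻¹ ∈ Y.U) :
    y ∈ Y.Upos w := by
  obtain ⟨a, ha, b, hb, rfl⟩ := Y.exists_Upos_mul_Uneg w hy
  have h1 : m * b * m⁻¹ ∈ Y.U := by
    have := mul_mem (inv_mem (hl.conj_Upos ha)) h
    rwa [show (m * a * m⁻¹)⁻¹ * (m * (a * b) * m⁻¹) = m * b * m⁻¹ by group] at this
  have h2 := hY.eq_one_of_mem_U_of_mem_V h1 (hl.conj_Uneg hb)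
  rw [conj_eq_one_iff] at h2
  rwa [h2, mul_one]

theorem core (hU : IsPGroup 2 Y.U) (hH : ∀ h ∈ Y.H, (∃ k, orderOf h = 2 ^ k) → h = 1) [Finite Γ]
    {T₀ : Subgroup Γ} (hle : T₀ ≤ Y.U ⊓ T.F)
    (hsc : ∀ x ∈ T₀, ∀ g ∈ T.G1, g * x * g⁻¹ ∈ Y.U → g * x * g⁻¹ ∈ T₀)
    (ha : Y.H ⊓ T.G1 ≤ ⨆ j, Y.H ⊓ T.L1 j)
    (hb : ∀ j, Y.U ⊓ T.F ≤ T₀ ⊔ Y.UJ (S.orb j) ⊓ T.F ∧ ∀ g ∈ T.L1 j, ∀ y ∈ Y.UJ (S.orb j) ⊓ T.F,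
      g * y * g⁻¹ * y⁻¹ ∈ T₀ ⊔ ⁅Y.U ⊓ T.F, Y.U ⊓ T.F⁆) :
    (Y.U ⊓ T.F) ⊓ ⁅T.G1, T.G1⁆ ≤ T₀ ⊔ ⁅Y.U ⊓ T.F, Y.U ⊓ T.F⁆ := by
  have : Fact (Nat.Prime 2) := ⟨Nat.prime_two⟩
  have hS := Twist.Wide.isSylowIn hY (T.wide_G1 hY) hU fun h hh k hk => hH h hh
    ((Nat.dvd_prime_pow Nat.prime_two).1 (orderOf_dvd_of_pow_eq_one hk) |>.imp fun _ h => h.2)
  rw [T.inf_G1_eq hY le_rfl] at hS
  refine Gold.KL.inf_commutator_le hS fun y hy g hg hgy => ?_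
  obtain ⟨w, hw, u, hu, m, hm, hl, u', hu', rfl⟩ := T.exists_normal_form hY hg
  have hu2 : u' ∈ Y.U ⊓ T.F := ⟨Y.Uneg_le_U _ hu'.1, hu'.2⟩
  have h1 : u' * y * u'⁻¹ ∈ Y.U ⊓ T.F := mul_mem (mul_mem hu2 hy) (inv_mem hu2)
  have h2 : m * (u' * y * u'⁻¹) * m⁻¹ ∈ Y.U ⊓ T.F := by
    have := mul_mem (mul_mem (inv_mem hu) hgy) hu
    rwa [show u⁻¹ * (u * m * u' * y * (u * m * u')⁻¹) * u = m * (u' * y * u'⁻¹) * m⁻¹ by group]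
      at this
  have h3 := N_good T hY (H_good T hY le_sup_left hle hsc ha hb) (fun j => (hb j).2) hw m hm hl _
    ⟨mem_Upos hY hl h1.1 h2.1, h1.2⟩
  have h4 : ∀ a ∈ Y.U ⊓ T.F, ∀ b ∈ Y.U ⊓ T.F, a * b * a⁻¹ * b⁻¹ ∈
      T₀ ⊔ ⁅Y.U ⊓ T.F, Y.U ⊓ T.F⁆ := fun a ha b hb =>
    mem_sup_right (commutator_mem_commutator ha hb)
  have := mul_mem (mul_mem (h4 u hu _ h2) h3) (h4 u' hu2 y hy)
  rwa [show u * (m * (u' * y * u'⁻¹) * m⁻¹) * u⁻¹ * (m * (u' * y * u'⁻¹) * m⁻¹)⁻¹ *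
    (m * (u' * y * u'⁻¹) * m⁻¹ * (u' * y * u'⁻¹)⁻¹) * (u' * y * u'⁻¹ * y⁻¹) =
    u * m * u' * y * (u * m * u')⁻¹ * y⁻¹ by group] at this

end Cfsg.Lib.KFS.C2c
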