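import Cfsg.Agent.KFS.C2a
import Cfsg.Agent.KFS.C2b
import Cfsg.Agent.KFS.C2cA

/-!
# Groups of Lie type in characteristic two: the focal subgroup
-/

set_option autoImplicit false

namespace Cfsg.Lib.KFS

open Subgroup Cfsg Cfsg.FusionSystem Cfsg.Lib.Fus Cfsg.Lib.Fus.Grp
open Cfsg.Lib.Chev Cfsg.Lib.Chev.RGD
variable {ι A : Type} [Fintype ι] [DecidableEq ι] [DecidableEq A] {Γ : Type*} [Group Γ]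
  {R : WeylData ι A} {Y : RGD R Γ} {S : R.Sym} (T : Y.Twist S) (hY : Y.Faithful)
include hY

theorem focal_le (hU : IsPGroup 2 Y.U) (hH : ∀ h ∈ Y.H, (∃ k, orderOf h = 2 ^ k) → h = 1) [Finite Γ]
    (hc : R.Conn) (h2 : ∀ i, ∃ j, i ∉ S.orb j ∧ R.C j i ≠ 0) {T₀ : Subgroup Γ} (h0 : T₀ ≠ ⊥)
    (hle : T₀ ≤ Y.U ⊓ T.F) (hsc : ∀ x ∈ T₀, ∀ g ∈ T.G1, g * x * g⁻¹ ∈ Y.U → g * x * g⁻¹ ∈ T₀) :
    (Y.U ⊓ T.F) ⊓ ⁅T.G1, T.G1⁆ ≤ T₀ ⊔ ⁅Y.U ⊓ T.F, Y.U ⊓ T.F⁆ :=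
  C2c.core T hY hU hH hle hsc (H_le_iSup T hY) (cover_sc T hY hU hH hc h2 h0 hle hsc)

end Cfsg.Lib.KFS
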