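import Cfsg.Agent.KFS.BasB
import Cfsg.Agent.StdX.Defs
import Cfsg.Agent.Gold.PrConn

/-!
# Simplicity of the 2-fusion system from facts on a Sylow subgroup inside an overgroup
-/

set_option autoImplicit false

namespace Cfsg.Lib.KFS

open Subgroup Cfsg Cfsg.Lib.Fus Cfsg.Lib.Fus.Grp Cfsg.Lib.Gold Cfsg.Lib.StdX

variable {Ω : Type*} [Group Ω] [Finite Ω] {Γ Γ0 T : Subgroup Ω} {z y : Ω} {n : ℕ}

theorem SpX.syl (h0 : T ≤ Γ0) (hT : Nat.card T = 2 ^ n)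
    (h : ∀ Q ≤ Γ0, IsPGroup 2 Q → Nat.card Q ≤ 2 ^ n) : IsSylowIn 2 (T.subgroupOf Γ0) ⊤ := by
  have : IsSylowIn 2 T Γ0 := ⟨h0, IsPGroup.of_card hT, fun Q hQ h1 h2 =>
    (eq_of_le_of_card_ge h1 (hT ▸ h Q h2 hQ)).symm⟩
  simpa using this.subgroupOf h0

omit [Finite Ω] in
theorem SpX.zp (h : z * z = 1) {a : Ω} (ha : a ∈ zpowers z) (h1 : a ≠ 1) : a = z := by
  obtain ⟨k, rfl⟩ := ha
  have e : z ^ (2 : ℤ) = 1 := (zpow_two z).trans h
  rcases Int.even_or_odd' k with ⟨j, rfl | rfl⟩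
  · exact absurd (by simp [zpow_mul, e]) h1
  · simp [zpow_add, zpow_mul, e]

theorem noSC_of_bas (h : Bas Γ Γ0 T z y n) : NoSC Γ0 := by
  refine NoSC.of_one (SpX.syl h.T0 h.cardT h.syl) fun U hU h1 => ?_
  have pT : IsPGroup 2 T := IsPGroup.of_card h.cardT
  let W := U.map Γ0.subtype
  have WT : W ≤ T := map_le_iff_le_comap.2 hU.1
  have key : ∀ a ∈ W, ∀ b ∈ T, StdM.Cl Γ0 a b → b ∈ W := by
    rintro _ ⟨a, ha, rfl⟩ _ hb ⟨c, hc, rfl⟩
    exact ⟨_, hU.2 a ha ⟨c, hc⟩ hb, rfl⟩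
  obtain ⟨w, w1, -, w2, w3, -⟩ := exists_central_invol pT (pT.to_le WT)
    (fun t ht => mem_normalizer_fintype fun a ha => key a ha _
      (mul_mem (mul_mem ht (WT ha)) (inv_mem ht)) ⟨t, h.T0 ht, rfl⟩)
    fun e => h1 ((map_eq_bot_iff_of_injective _ Γ0.subtype_injective).1 e)
  have zW : z ∈ W := SpX.zp h.z2 (h.centT (x := w)
    ⟨h.le (h.T0 (WT w1)), Gold.mem_Cs.2 fun t ht => Gold.mem_C1.1 (w3 ht)⟩) w2 ▸ w1
  have dW : ⁅T, T⁆ ≤ W := h.derJ.trans ((closure_le _).2 fun a ha => key z zW a ha.1 ha.2)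
  have yW : y ∈ W := dW (commutator_mono inf_le_left inf_le_left h.yder)
  have TW : T ≤ W := h.genT.trans ((closure_le _).2 fun a ha => by
    rcases h.cls a (h.T0 ha.1) ha.2 with rfl | e | e
    exacts [one_mem W, key z zW a ha.1 e, key y yW a ha.1 e])
  intro x hx
  obtain ⟨u, hu, e⟩ := TW hx
  exact (show u = x from Subtype.ext e) ▸ hu

omit [Finite Ω] in
theorem SpX.norm (h0 : T ≤ Γ0) {g : Γ0} (hg : g ∈ normalizer ((T.subgroupOf Γ0 : Subgroup Γ0) : Set Γ0))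
    {t : Ω} (ht : t ∈ T) : g * t * (g : Ω)⁻¹ ∈ T :=
  (mem_normalizer_iff.1 hg ⟨t, h0 ht⟩).1 ht

/-- a self-normalising Sylow subgroup -/
theorem autB_of_self (h0 : T ≤ Γ0) (hT : Nat.card T = 2 ^ n)
    (h : ∀ Q ≤ Γ0, IsPGroup 2 Q → Nat.card Q ≤ 2 ^ n)
    (hN : ∀ g ∈ Γ0, (∀ t ∈ T, g * t * g⁻¹ ∈ T) → g ∈ T) : AutB Γ0 :=
  autB_of_cent' (SpX.syl h0 hT h) fun g hg ho => by
    have a : (g : Ω) ∈ T := hN g g.2 fun t => SpX.norm h0 hg
    have b : orderOf g ∣ 2 ^ n := by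
      rw [← hT, ← Subgroup.orderOf_coe g]; exact orderOf_dvd_natCard (⟨g, a⟩ : T) |> fun k => by
        rwa [← Subgroup.orderOf_coe] at k
    rw [orderOf_eq_one_iff.1 (((Nat.coprime_two_right.2 ho).pow_right n).eq_one_of_dvd b)]
    exact one_mem _

/-- the centraliser of `z` is generated by involutions and has a centric normal 2-subgroup -/
theorem autB_of_bas (h : Bas Γ Γ0 T z y n) {Q : Subgroup Ω} (hQ : Q ≤ T) (hn : Γ0 ⊓ C1 z ≤ Ns Q)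
    (hc : T ⊓ Cs Q ≤ Q) {I : Set Ω} (hI : Γ0 ⊓ C1 z = closure I) (h2 : ∀ a ∈ I, a * a = 1) :
    AutB Γ0 := by
  refine autB_of_local (SpX.syl h.T0 h.cardT h.syl) (H := (C1 z).subgroupOf Γ0) (Q := Q.subgroupOf Γ0)
    (fun g hg => ?_) (comap_mono hQ) (fun g hg => ?_) (fun g hg => hc ⟨hg.1, Gold.mem_Cs.2 fun u hu =>
      congrArg Subtype.val (hg.2 ⟨u, h.T0 (hQ hu)⟩ hu)⟩) ?_
  · have a : g * z * (g : Ω)⁻¹ ∈ zpowers z := h.centT ⟨h.le (h.T0 (SpX.norm h.T0 hg h.zT)),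
      Gold.mem_Cs.2 fun t ht => by
        have := Gold.mem_Cs.1 h.zc _ (SpX.norm h.T0 (inv_mem hg) ht)
        simp only [coe_inv, inv_inv] at this
        calc t * (g * z * (g : Ω)⁻¹) = g * ((g : Ω)⁻¹ * t * g * z) * (g : Ω)⁻¹ := by group
          _ = _ := by rw [this]; group⟩
    exact Gold.mem_C1.2 (mul_inv_eq_iff_eq_mul.1 (SpX.zp h.z2 a (by simpa using h.z1)))
  · exact mem_normalizer_fintype fun u hu => (mem_normalizer_iff.1 (hn ⟨g.2, hg⟩) u).1 hu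
  · refine eq_top_iff.2 fun x _ => ?_
    have a : ((x : Γ0) : Ω) ∈ closure I := hI ▸ ⟨x.1.2, x.2⟩
    have k : ∀ a (ha : a ∈ closure I), (⟨⟨a, (hI.ge ha).1⟩, (hI.ge ha).2⟩ : (C1 z).subgroupOf Γ0) ∈
        Subgroup.closure {g : (C1 z).subgroupOf Γ0 | ∃ k : ℕ, g ^ 2 ^ k = 1} := fun a ha => by
      induction ha using closure_induction with
      | mem a ha => exact Subgroup.subset_closure ⟨1, Subtype.ext (Subtype.ext (by simpa [pow_two] using h2 a ha))⟩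
      | one => exact one_mem _
      | mul a b _ _ p q => exact mul_mem p q
      | inv a _ p => exact inv_mem p
    exact k _ a

end Cfsg.Lib.KFS
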